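import Mathlib.LinearAlgebra.RootSystem.Defs
import Mathlib.LinearAlgebra.QuadraticForm.Basic
import Mathlib.Algebra.CharP.Defs
import Mathlib.Tactic.Ring
import Mathlib.Tactic.LinearCombination

/-!
# Reflection invariant quadratic forms on the coweight module of a root pairing
-/

namespace Groth.Agent.RootQuad

variable {ι R M N : Type*} [CommRing R] [AddCommGroup M] [Module R M] [AddCommGroup N] [Module R N]
  (P : RootPairing ι R M N) (Q : QuadraticMap R N R) (j : ι)

lemma map_coreflection (y : N) : Q (P.coreflection j y) = Q y + (P.root' j y * (P.root' j y * Q (P.coroot j)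
    - QuadraticMap.polar Q y (P.coroot j))) := by
  rw [RootPairing.coreflection_apply, sub_eq_add_neg, ← neg_smul, QuadraticMap.map_add (⇑Q), QuadraticMap.map_smul,
    QuadraticMap.polar_smul_right, smul_eq_mul, smul_eq_mul]
  ring

lemma polar_eq_of_inv [IsDomain R] [CharZero R] (D : Submodule R N) (hc : P.coroot j ∈ D)
    (h : ∀ y ∈ D, Q (P.coreflection j y) = Q y) {y : N} (hy : y ∈ D) :
    QuadraticMap.polar Q y (P.coroot j) = P.root' j y * Q (P.coroot j) := by
  have h0 : ∀ y ∈ D, P.root' j y * (P.root' j y * Q (P.coroot j) - QuadraticMap.polar Q y (P.coroot j)) = 0 :=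
    fun y hy => by have := map_coreflection P Q j y; rw [h y hy] at this; linear_combination -this
  by_cases hy0 : P.root' j y = 0
  · have h2 : P.root' j (P.coroot j) = 2 := P.root_coroot_two j
    have := h0 (y + P.coroot j) (D.add_mem hy hc)
    rw [map_add, hy0, zero_add, h2, QuadraticMap.polar_add_left, QuadraticMap.polar_self] at this
    rw [hy0, zero_mul]
    have h3 := (mul_eq_zero.mp this).resolve_left two_ne_zero
    rw [two_smul] at h3
    linear_combination -h3
  · exact (sub_eq_zero.mp ((mul_eq_zero.mp (h0 y hy)).resolve_left hy0)).symm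

lemma inv_of_polar_eq {y : N}
    (h : QuadraticMap.polar Q y (P.coroot j) = P.root' j y * Q (P.coroot j)) :
    Q (P.coreflection j y) = Q y := by
  rw [map_coreflection, h, sub_self, mul_zero, add_zero]

end Groth.Agent.RootQuad
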